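import Cfsg.Agent.H813.NCSpor.Base
import Cfsg.Agent.OddHalf.D8.Plug
import Cfsg.Agent.OddHalf.D8.RowJ3
import Cfsg.Agent.KFacts.ON.Sheet
import Cfsg.Agent.KFacts.SuzSheets
import Cfsg.Agent.KFacts.He.Basic
import Cfsg.Agent.OddHalf.D8.Fi22.KAll
import Cfsg.Agent.KFacts.J2.SheetX

/-!
# S4386, sporadic rows: `HS`, `He`, `Suz`, `ON`, `Fi22`, `Fi24'`, `HN`, `J2`, `J3`

The centre of a Sylow 2-subgroup has order two and the centralizer of its involution is not solvable.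
-/

set_option autoImplicit false

namespace Cfsg.Agent.H813.NCSpor

open Subgroup Cfsg Cfsg.Agent.H584.NC Cfsg.Agent.OddHalf.D8.Sheet

universe u

variable {S : Type u} [Group S] [Finite S]

theorem ne_bot_of_mem {G : Type*} [Group G] {P : Subgroup G} {z : G} (hz : z ∈ P) (h1 : z ≠ 1) : P ≠ ⊥ := by
  rintro rfl
  exact h1 (mem_bot.1 hz)

theorem false_of_basic (h : Loc S) {z : S} {P : Subgroup S} (hB : Basic z P) : False :=
  false_of_perfect h hB.syl hB.perf (ne_bot_of_mem hB.zP hB.z1) hB.cen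

theorem false_of_sheetE (h : Loc S) {z : S} {P R : Subgroup S} (hB : SheetE z P R) : False :=
  false_of_perfect h hB.syl hB.perf (ne_bot_of_mem (hB.RP hB.zR) hB.z1) hB.cen

theorem not_hs (h : Loc S) : ¬ Spor.IsoHS S := fun hS => by
  obtain ⟨z, v, k, P, R, sh, -⟩ := Cfsg.Agent.KFacts.HS.exists_sheet' hS
  exact false_of_basic h sh.basic

theorem not_he (h : Loc S) : ¬ Spor.IsoHe S := fun hS => by
  obtain ⟨z, ι, -, hB⟩ := Cfsg.Agent.KFacts.He.Basic.basic_of_iso hS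
  exact false_of_basic h hB

theorem not_suz (h : Loc S) : ¬ Spor.IsoSuz S := fun hS => by
  obtain ⟨z, P, R, hB, -⟩ := Cfsg.Agent.KFacts.SuzSheets.exists_sheets S hS
  exact false_of_sheetE h hB

theorem not_on (h : Loc S) : ¬ Spor.IsoON S := fun hS => by
  obtain ⟨z, v, P, E, hB⟩ := Cfsg.Agent.KFacts.ON.Sheet.exists_sheet hS
  exact false_of_basic h hB.basic

theorem not_fi22 (h : Loc S) : ¬ Spor.IsoFi22 S := fun hS => by
  obtain ⟨T, d, d', R, hA⟩ := Cfsg.Agent.OddHalf.D8.Fi22.exists_all hS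
  exact false_of_basic h hA.basic

theorem not_fi24 (h : Loc S) : ¬ Spor.IsoFi24' S := fun hS => by
  obtain ⟨z, P, R, hB, -⟩ := Cfsg.Agent.OddHalf.D8.RowFi24.facts S inferInstance hS
  exact false_of_sheetE h hB

theorem not_hn (h : Loc S) : ¬ Spor.IsoHN S := fun hS => by
  obtain ⟨z, P, R, hB, -⟩ := Cfsg.Agent.OddHalf.D8.RowHN.facts S inferInstance hS
  exact false_of_sheetE h hB

theorem not_j3 (h : Loc S) : ¬ Spor.IsoJ3 S := fun hS => by
  obtain ⟨z, P, R, hB⟩ := Cfsg.Agent.OddHalf.D8.RowJ3.sheet S inferInstance hS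
  exact false_of_sheetE h hB

theorem not_j2 (h : Loc S) : ¬ Spor.IsoJ2 S := fun hS => by
  obtain ⟨t, u, Q, v, ρ, D⟩ := Cfsg.Agent.KFacts.J2.Facts.exists_dat_of hS
  have hB := Cfsg.Agent.KFacts.J2.SheetX.sheetX D
  exact false_of_perfect h hB.syl hB.perf (ne_bot_of_mem (hB.RP hB.zR) hB.z1) hB.cen

/-- **Task 481.** -/
theorem not_spor_c (h : Loc S) : ¬ Cfsg.Spor.IsoON S ∧ ¬ Cfsg.Spor.IsoFi22 S ∧ ¬ Cfsg.Spor.IsoFi24' S ∧
    ¬ Cfsg.Spor.IsoHN S := ⟨not_on h, not_fi22 h, not_fi24 h, not_hn h⟩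

end Cfsg.Agent.H813.NCSpor
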