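import Cfsg.Agent.H813.NCSpor.Rows
import Cfsg.Agent.Omega.Quasithin.Row.MTwelve
import Cfsg.Agent.TypeM.FactsMcL

/-!
# S4386, sporadic rows: `M12`, `M22`, `McL`
-/

set_option autoImplicit false

namespace Cfsg.Agent.H813.NCSpor

open Subgroup Cfsg Cfsg.Agent.H584.NC

universe u v

theorem map_centralizer {S : Type u} {X : Type v} [Group S] [Group X] (e : S ≃* X) (w : S) :
    (centralizer ({w} : Set S)).map e.toMonoidHom = centralizer ({e w} : Set X) := by
  ext x
  rw [mem_centralizer_singleton_iff]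
  constructor
  · rintro ⟨y, hy, rfl⟩
    rw [SetLike.mem_coe, mem_centralizer_singleton_iff] at hy
    show e y * e w = e w * e y
    rw [← map_mul, hy, map_mul]
  · intro hx
    refine ⟨e.symm x, ?_, e.apply_symm_apply x⟩
    rw [SetLike.mem_coe, mem_centralizer_singleton_iff]
    apply e.injective
    rw [map_mul, map_mul, e.apply_symm_apply, hx]

/-- the central involution in an isomorphic group -/
theorem exists_z_map {S : Type u} {X : Type v} [Group S] [Finite S] [Group X] (e : S ≃* X) (h : Loc S) :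
    ∃ (z : X) (Q : Sylow 2 X), orderOf z = 2 ∧ z ∈ Q ∧ (∀ x ∈ Q, z * x = x * z) ∧
      NC (centralizer ({z} : Set X)) := by
  obtain ⟨w, Q, hw, hwQ, hc, hnc⟩ := h.exists_z
  refine ⟨e w, Q.mapSurjective (f := e.toMonoidHom) e.surjective, ?_, ?_, ?_, ?_⟩
  · rw [e.orderOf_eq, hw]
  · exact ⟨w, hwQ, rfl⟩
  · rintro _ ⟨x, hx, rfl⟩
    show e w * e x = e x * e w
    rw [← map_mul, hc x hx, map_mul]
  · rw [← map_centralizer]
    exact (NC.congr ((centralizer ({w} : Set S)).equivMapOfInjective _ e.injective)).1 hnc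

/-- **Criterion.** A large normal 2-subgroup of `C(z)` with centre containing only the involution `z`. -/
theorem false_of_large {S : Type u} {X : Type v} [Group S] [Finite S] [Group X] (e : S ≃* X) (h : Loc S)
    {z : X} {Q : Subgroup X} (hQ : IsPGroup 2 Q)
    (conj : ∀ g, g * z = z * g → ∀ x ∈ Q, g * x * g⁻¹ ∈ Q)
    (self : ∀ g, g * z = z * g → (∀ x ∈ Q, g * x = x * g) → g ∈ Q)
    (syl : ∃ S' : Sylow 2 X, ∀ x ∈ S', x * z = z * x)
    (eqz : ∀ y ∈ Q, y * y = 1 → y ≠ 1 → (∀ x ∈ Q, x * y = y * x) → y = z)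
    (hodd : ∃ x : X, x * z = z * x ∧ x ≠ 1 ∧ ¬ 2 ∣ orderOf x) : False := by
  have hfin : Finite X := Finite.of_equiv S e.toEquiv
  obtain ⟨w, Q', hw, hwQ, hc, hnc⟩ := exists_z_map e h
  obtain ⟨S', hS'⟩ := syl
  obtain ⟨g, hg⟩ := MulAction.exists_smul_eq X Q' S'
  have hmem : ∀ x, x ∈ S' ↔ g⁻¹ * x * g ∈ Q' := by
    intro x
    rw [← hg]
    show x ∈ ((g • Q' : Sylow 2 X) : Subgroup X) ↔ _
    rw [Sylow.coe_subgroup_smul, Subgroup.mem_pointwise_smul_iff_inv_smul_mem]
    have e : (MulAut.conj g)⁻¹ • x = g⁻¹ * x * g := by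
      rw [← map_inv]
      show g⁻¹ * x * g⁻¹⁻¹ = _
      rw [inv_inv]
    rw [e]
    rfl
  have hwS : g * w * g⁻¹ ∈ S' := (hmem _).2 (by
    have : g⁻¹ * (g * w * g⁻¹) * g = w := by group
    rw [this]; exact hwQ)
  have hwc : ∀ x ∈ S', x * (g * w * g⁻¹) = g * w * g⁻¹ * x := fun x hx => by
    have h1 := hc _ ((hmem x).1 hx)
    calc x * (g * w * g⁻¹) = g * ((g⁻¹ * x * g) * w) * g⁻¹ := by group
      _ = g * (w * (g⁻¹ * x * g)) * g⁻¹ := by rw [h1]
      _ = g * w * g⁻¹ * x := by group
  have hwo : orderOf (g * w * g⁻¹) = 2 := by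
    rw [← hw]
    exact (MulAut.conj g).orderOf_eq w
  -- `Q` lies in the Sylow subgroup
  have hQS : Q ≤ (S' : Subgroup X) := by
    have h1 : (S' : Subgroup X) ≤ normalizer (Q : Set X) := by
      intro x hx
      have hxz := hS' x hx
      rw [mem_normalizer_iff]
      intro q
      refine ⟨conj x hxz q, fun hq => ?_⟩
      have h2 : x⁻¹ * z = z * x⁻¹ := by
        rw [inv_mul_eq_iff_eq_mul, ← mul_assoc, hxz, mul_inv_cancel_right]
      have h3 := conj x⁻¹ h2 _ hq
      have h4 : x⁻¹ * (x * q * x⁻¹) * x⁻¹⁻¹ = q := by group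
      rwa [h4] at h3
    have h2 : IsPGroup 2 (Q ⊔ (S' : Subgroup X) : Subgroup X) := hQ.to_sup_of_normal_left' S'.isPGroup' h1
    rw [← S'.is_maximal' h2 le_sup_right]
    exact le_sup_left
  have hwz : g * w * g⁻¹ = z := by
    apply eqz
    · exact self _ (hS' _ hwS) fun x hx => (hwc x (hQS hx)).symm
    · rw [← pow_two, ← hwo, pow_orderOf_eq_one]
    · intro h1
      rw [h1, orderOf_one] at hwo
      omega
    · exact fun x hx => hwc x (hQS hx)
  have hncz : NC (centralizer ({z} : Set X)) := nc_conj hwz hnc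
  obtain ⟨x, hxz, hx1, hxo⟩ := hodd
  have hQz : Q ≤ centralizer ({z} : Set X) := fun q hq => mem_centralizer_singleton_iff.2 (hS' q (hQS hq))
  have h3 : x ∈ Q := self x hxz fun q hq =>
    hncz.comm' hQz hQ (mem_centralizer_singleton_iff.2 hxz) hxo (conj x hxz) hq
  obtain ⟨k, hk⟩ := hQ ⟨x, h3⟩
  have h4 : x ^ 2 ^ k = 1 := congrArg Subtype.val hk
  obtain ⟨j, -, hj⟩ := (Nat.dvd_prime_pow Nat.prime_two).1 (orderOf_dvd_of_pow_eq_one h4)
  rcases j with _ | j
  · rw [pow_zero, orderOf_eq_one_iff] at hj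
    exact hx1 hj
  · exact hxo (hj ▸ dvd_pow_self 2 (Nat.succ_ne_zero j))

section
variable {S : Type u} [Group S] [Finite S]

open Cfsg.Agent.CoThreeStd.M12 Cfsg.Agent.Omega.Quasithin.M12 in
theorem not_m12 (h : Loc S) : ¬ Spor.IsoM12 S := by
  rintro ⟨e⟩
  refine false_of_large (e.trans equiv) h isPGroup_Q conj_mem_Q self_Q exists_sylow
    (fun y hy hyy hy1 hc => eq_z_of_comm hy hyy hy1 hc) ?_
  have h1 := (centralizer ({z} : Set G12)).card_mul_index
  rw [index_eq, Cfsg.Agent.CoThreeStd.M12.Out.card_G12] at h1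
  have h2 : 3 ∣ Nat.card (centralizer ({z} : Set G12)) := by
    generalize Nat.card (centralizer ({z} : Set G12)) = n at h1
    have h3 : n = 192 := by omega
    exact ⟨64, by omega⟩
  have : Fact (Nat.Prime 3) := ⟨Nat.prime_three⟩
  obtain ⟨x, hx⟩ := exists_prime_orderOf_dvd_card' 3 h2
  refine ⟨x, mem_centralizer_singleton_iff.1 x.2, ?_, ?_⟩
  · intro h3
    have h4 : x = 1 := Subtype.ext h3
    rw [h4, orderOf_one] at hx
    omega
  · rw [Subgroup.orderOf_coe, hx]
    norm_num

open Cfsg.Agent.OddHalf.MM in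
theorem not_m22 (h : Loc S) : ¬ Spor.IsoM22 S := by
  intro hS
  obtain ⟨SK, V, W, z, c, M⟩ := Cfsg.Agent.OddHalf.MM.RowM23.sheet22 S hS
  refine false_of_one_class h (z := z) (fun w hw => ?_) fun hnc => ?_
  · obtain ⟨g, hg⟩ := M.inv w (by rw [← pow_two, ← hw, pow_orderOf_eq_one]) (fun h1 => by
      rw [h1, orderOf_one] at hw; omega)
    exact ⟨g⁻¹, by rw [hg]; group⟩
  · -- `N(V) ∩ C(z)` is a 2-group
    let N : Subgroup S := normalizer (V : Set S) ⊓ centralizer ({z} : Set S)
    have hVz : V ≤ centralizer ({z} : Set S) := by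
      intro v hv
      rw [mem_centralizer_singleton_iff]
      have h1 := M.elV v hv
      have h2 := M.elV z M.zV
      have h3 := M.elV (v * z) (V.mul_mem hv M.zV)
      calc v * z = v * z * 1 := (mul_one _).symm
        _ = v * z * (v * v) := by rw [h1]
        _ = v * z * v * (z * z) * v := by rw [h2]; group
        _ = v * z * (v * z) * z * v := by group
        _ = z * v := by rw [h3, one_mul]
    have hV2 : IsPGroup 2 V := fun x => ⟨1, Subtype.ext (by
      rw [pow_one, pow_two]
      exact M.elV x x.2)⟩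
    have hN2 : IsPGroup 2 N := by
      rw [IsPGroup.iff_card]
      by_contra hcon
      have hNodd : ∃ p : ℕ, p.Prime ∧ p ≠ 2 ∧ p ∣ Nat.card N := by
        by_contra hno
        push Not at hno
        apply hcon
        refine ⟨(Nat.card N).primeFactorsList.length, ?_⟩
        exact Nat.eq_prime_pow_of_unique_prime_dvd (Nat.card_pos.ne') fun {d} hd hdd => by
          by_contra hd2
          exact hno d hd hd2 hdd
      obtain ⟨p, hp, hp2, hpd⟩ := hNodd
      have : Fact p.Prime := ⟨hp⟩
      obtain ⟨x, hx⟩ := exists_prime_orderOf_dvd_card' p hpd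
      have hxo : ¬ 2 ∣ orderOf (x : S) := by
        rw [Subgroup.orderOf_coe, hx]
        intro h1
        exact hp2 ((Nat.prime_dvd_prime_iff_eq Nat.prime_two hp).1 h1).symm
      have hxN := mem_normalizer_iff.1 (mem_inf.1 x.2).1
      have h1 : (x : S) ∈ V := M.CV x fun v hv =>
        hnc.comm' hVz hV2 x.2.2 hxo (fun y hy => (hxN y).1 hy) hv
      have h2 : (x : S) * x = 1 := M.elV _ h1
      have h3 : orderOf (x : S) ∣ 2 := orderOf_dvd_of_pow_eq_one (by rw [pow_two, h2])
      rw [Subgroup.orderOf_coe, hx] at h3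
      exact hp2 ((Nat.prime_dvd_prime_iff_eq hp Nat.prime_two).1 h3)
    -- it acts on `V / ⟨z⟩`
    let D : Subgroup S := zpowers z
    have hzz : z * z = 1 := M.elV z M.zV
    have hz2 : orderOf z = 2 := orderOf_eq_prime (by rw [pow_two, hzz]) M.z1
    have hDmem : ∀ x, x ∈ D ↔ x = 1 ∨ x = z := by
      intro x
      constructor
      · intro hx
        obtain ⟨k, rfl⟩ := mem_zpowers_iff.1 hx
        rw [← zpow_mod_orderOf, hz2]
        rcases Int.emod_two_eq_zero_or_one k with h | h
        · left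
          change z ^ (k % 2) = 1
          rw [h, zpow_zero]
        · right
          change z ^ (k % 2) = z
          rw [h, zpow_one]
      · rintro (rfl | rfl)
        · exact one_mem _
        · exact mem_zpowers _
    -- the set of cosets
    let Ω : Set (S ⧸ D) := {q | ∃ v ∈ V, q = (v : S ⧸ D)}
    have hstep : ∀ (n : N) (v : S), v ∈ V → (n : S) * v * (n : S)⁻¹ ∈ V := by
      intro n v hv
      exact (mem_normalizer_iff.1 (mem_inf.1 n.2).1 v).1 hv
    have hwell : ∀ (n : N) (a b : S), (QuotientGroup.mk a : S ⧸ D) = QuotientGroup.mk b →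
        (QuotientGroup.mk ((n : S) * a * (n : S)⁻¹) : S ⧸ D) = QuotientGroup.mk ((n : S) * b * (n : S)⁻¹) := by
      intro n a b hab
      rw [QuotientGroup.eq] at hab ⊢
      have h1 : ((n : S) * a * (n : S)⁻¹)⁻¹ * ((n : S) * b * (n : S)⁻¹) = (n : S) * (a⁻¹ * b) * (n : S)⁻¹ := by group
      rw [h1]
      have h2 := mem_centralizer_singleton_iff.1 (mem_inf.1 n.2).2
      rcases (hDmem _).1 hab with h3 | h3
      · rw [h3, mul_one, mul_inv_cancel]; exact one_mem _
      · rw [h3, h2, mul_inv_cancel_right]; exact mem_zpowers _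
    let act : MulAction N Ω :=
      { smul := fun n q => ⟨Quotient.map' (fun a => (n : S) * a * (n : S)⁻¹) (fun a b hab => by
            have h1 := hwell n a b (Quotient.sound' hab)
            exact Quotient.exact' h1) q.1, by
          obtain ⟨v, hv, hq⟩ := q.2
          rw [hq]
          exact ⟨(n : S) * v * (n : S)⁻¹, hstep n v hv, rfl⟩⟩
        one_smul := by
          rintro ⟨q, v, hv, rfl⟩
          apply Subtype.ext
          show (QuotientGroup.mk (((1 : N) : S) * v * ((1 : N) : S)⁻¹) : S ⧸ D) = _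
          simp
        mul_smul := by
          rintro n m ⟨q, v, hv, rfl⟩
          apply Subtype.ext
          show (QuotientGroup.mk (((n * m : N) : S) * v * ((n * m : N) : S)⁻¹) : S ⧸ D) =
            (QuotientGroup.mk ((n : S) * ((m : S) * v * (m : S)⁻¹) * (n : S)⁻¹) : S ⧸ D)
          congr 1
          rw [Subgroup.coe_mul]
          group }
    have hcard : Nat.card Ω = 8 := by
      have hVD : D ≤ V := by
        intro x hx
        rcases (hDmem x).1 hx with rfl | rfl
        · exact one_mem _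
        · exact M.zV
      let f : V ⧸ (D.subgroupOf V) → Ω := Quotient.lift (s := QuotientGroup.leftRel (D.subgroupOf V))
        (fun v => ⟨((v : S) : S ⧸ D), v, v.2, rfl⟩) (by
          intro a b hab
          apply Subtype.ext
          have h1 := QuotientGroup.leftRel_apply.1 hab
          rw [mem_subgroupOf] at h1
          exact QuotientGroup.eq.2 h1)
      have hf : Function.Bijective f := by
        constructor
        · intro a b hab
          induction a using QuotientGroup.induction_on with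
          | _ a =>
            induction b using QuotientGroup.induction_on with
            | _ b =>
              have h1 : ((a : S) : S ⧸ D) = ((b : S) : S ⧸ D) := congrArg Subtype.val hab
              rw [QuotientGroup.eq] at h1 ⊢
              rw [mem_subgroupOf]
              exact h1
        · rintro ⟨q, v, hv, rfl⟩
          exact ⟨QuotientGroup.mk ⟨v, hv⟩, rfl⟩
      rw [← Nat.card_congr (Equiv.ofBijective f hf)]
      have h1 := Subgroup.card_eq_card_quotient_mul_card_subgroup (D.subgroupOf V)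
      rw [M.cardV, Nat.card_congr (Subgroup.subgroupOfEquivOfLe hVD).toEquiv, Nat.card_zpowers, hz2] at h1
      omega
    have hfinO : Finite Ω := Nat.finite_of_card_ne_zero (by rw [hcard]; norm_num)
    have hmod := hN2.card_modEq_card_fixedPoints Ω
    rw [hcard] at hmod
    have h2 : 2 ∣ Nat.card (MulAction.fixedPoints N Ω) :=
      (Nat.modEq_zero_iff_dvd).1 (hmod.symm.trans ((Nat.modEq_zero_iff_dvd).2 (by norm_num)))
    -- the trivial coset is fixed, so there is another one
    have hfix1 : (⟨((1 : S) : S ⧸ D), 1, one_mem _, rfl⟩ : Ω) ∈ MulAction.fixedPoints N Ω := by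
      intro n
      apply Subtype.ext
      show (QuotientGroup.mk ((n : S) * 1 * (n : S)⁻¹) : S ⧸ D) = _
      rw [mul_one, mul_inv_cancel]
    obtain ⟨⟨⟨q, v, hv, rfl⟩, hqf⟩, hne⟩ : ∃ q : MulAction.fixedPoints N Ω, q ≠ ⟨_, hfix1⟩ := by
      by_contra hno
      push Not at hno
      have h3 : Nat.card (MulAction.fixedPoints N Ω) = 1 := by
        have : Unique (MulAction.fixedPoints N Ω) := ⟨⟨⟨_, hfix1⟩⟩, hno⟩
        exact Nat.card_unique
      omega
    have hv1 : v = 1 ∨ v = z := by
      apply M.sq v hv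
      intro k hk hkz
      have hkN : k ∈ N := by
        refine mem_inf.2 ⟨?_, mem_centralizer_singleton_iff.2 hkz⟩
        rw [mem_normalizer_iff]
        intro x
        exact (hk x).symm
      have h3 := congrArg Subtype.val (hqf ⟨k, hkN⟩)
      change (QuotientGroup.mk (k * v * k⁻¹) : S ⧸ D) = QuotientGroup.mk v at h3
      have h4 := QuotientGroup.eq.1 h3.symm
      rcases (hDmem _).1 h4 with h5 | h5
      · left
        exact (inv_mul_eq_one.1 h5).symm
      · right
        exact (inv_mul_eq_iff_eq_mul.1 h5)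
    apply hne
    apply Subtype.ext
    apply Subtype.ext
    show (QuotientGroup.mk v : S ⧸ D) = QuotientGroup.mk 1
    rw [QuotientGroup.eq, mul_one]
    exact D.inv_mem ((hDmem v).2 hv1)

open Cfsg.Agent.TypeM.Two in
theorem not_mcl (h : Loc S) : ¬ Spor.IsoMcL S := by
  intro hS
  obtain ⟨-, -, -, ⟨L⟩⟩ := Cfsg.Agent.TypeM.FactsMcL.facts hS
  refine false_of_one_class h (z := L.t) (fun w hw => ?_) fun hnc => ?_
  · obtain ⟨g, hg⟩ := L.one w (by rw [← pow_two, ← hw, pow_orderOf_eq_one]) (fun h1 => by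
      rw [h1, orderOf_one] at hw; omega)
    exact ⟨g⁻¹, by rw [← hg]; group⟩
  · have h1 := hnc.solvable
    have h2 : Group.IsSolvable L.K.π.range := Group.isSolvable_of_surjective L.K.π.rangeRestrict_surjective
    rw [L.K.range_eq] at h2
    have h3 : ¬ Group.IsSolvable (alternatingGroup (Fin 8)) := by
      intro h4
      have h5 : IsSimpleGroup (alternatingGroup (Fin 8)) := alternatingGroup.isSimpleGroup (by
        rw [Nat.card_eq_fintype_card, Fintype.card_fin]; norm_num)
      have h6 := IsSimpleGroup.comm_iff_isSolvable.2 h4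
        ⟨Equiv.swap 0 1 * Equiv.swap 1 2, by rw [Equiv.Perm.mem_alternatingGroup]; decide⟩
        ⟨Equiv.swap 1 2 * Equiv.swap 2 3, by rw [Equiv.Perm.mem_alternatingGroup]; decide⟩
      have h7 := congrArg (fun σ : alternatingGroup (Fin 8) => (σ : Equiv.Perm (Fin 8)) 0) h6
      revert h7
      decide
    exact h3 h2

/-- **Task 479.** -/
theorem not_spor_a (h : Loc S) : ¬ Cfsg.Spor.IsoM12 S ∧ ¬ Cfsg.Spor.IsoM22 S ∧ ¬ Cfsg.Spor.IsoJ2 S ∧
    ¬ Cfsg.Spor.IsoJ3 S := ⟨not_m12 h, not_m22 h, not_j2 h, not_j3 h⟩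

/-- **Task 480.** -/
theorem not_spor_b (h : Loc S) : ¬ Cfsg.Spor.IsoHS S ∧ ¬ Cfsg.Spor.IsoMcL S ∧ ¬ Cfsg.Spor.IsoHe S ∧
    ¬ Cfsg.Spor.IsoSuz S := ⟨not_hs h, not_mcl h, not_he h, not_suz h⟩

end

end Cfsg.Agent.H813.NCSpor
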