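import Cfsg.Agent.H584.NC.Basic

/-!
# Criteria: the centralizer of a 2-central involution is not 2-nilpotent (S4386, sporadic rows)
-/

set_option autoImplicit false

namespace Cfsg.Agent.H813.NCSpor

open Subgroup Cfsg Cfsg.Agent.H584.NC

universe u

variable {S : Type u} [Group S]

/-- conjugating the centralizer of an element -/
theorem nc_conj [Finite S] {z w g : S} (hg : g * w * g⁻¹ = z) (h : NC (centralizer ({w} : Set S))) :
    NC (centralizer ({z} : Set S)) := by
  have h2 : centralizer ({z} : Set S) = (centralizer ({w} : Set S)).map (MulAut.conj g).toMonoidHom := by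
    ext x
    rw [mem_centralizer_singleton_iff]
    constructor
    · intro hx
      refine ⟨g⁻¹ * x * g, ?_, ?_⟩
      · rw [SetLike.mem_coe, mem_centralizer_singleton_iff]
        have h3 : w = g⁻¹ * z * g := by rw [← hg]; group
        rw [h3]
        calc g⁻¹ * x * g * (g⁻¹ * z * g) = g⁻¹ * (x * z) * g := by group
          _ = g⁻¹ * (z * x) * g := by rw [hx]
          _ = g⁻¹ * z * g * (g⁻¹ * x * g) := by group
      · show g * (g⁻¹ * x * g) * g⁻¹ = x
        group
    · rintro ⟨y, hy, rfl⟩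
      rw [SetLike.mem_coe, mem_centralizer_singleton_iff] at hy
      show g * y * g⁻¹ * z = z * (g * y * g⁻¹)
      rw [← hg]
      calc g * y * g⁻¹ * (g * w * g⁻¹) = g * (y * w) * g⁻¹ := by group
        _ = g * (w * y) * g⁻¹ := by rw [hy]
        _ = g * w * g⁻¹ * (g * y * g⁻¹) := by group
  rw [h2]
  exact (NC.congr ((centralizer ({w} : Set S)).equivMapOfInjective _ (MulAut.conj g).injective)).1 h

/-- a non-trivial perfect group is not 2-nilpotent -/
theorem not_nc_of_perfect [Finite S] {P H : Subgroup S} (hP : ⁅P, P⁆ = P) (h1 : P ≠ ⊥) (hPH : P ≤ H) : ¬ NC H := by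
  intro h
  have h2 := (h.to_le hPH).solvable
  rw [Group.isSolvable_def] at h2
  obtain ⟨n, hn⟩ := h2
  have h3 : ∀ n, derivedSeries P n = ⊤ := by
    intro n
    induction n with
    | zero => rfl
    | succ n ih =>
      rw [derivedSeries_succ, ih]
      apply (map_injective (subtype_injective P))
      rw [map_commutator, ← MonoidHom.range_eq_map, range_subtype, hP]
  rw [h3 n] at hn
  apply h1
  rw [eq_bot_iff]
  intro x hx
  have h4 : (⟨x, hx⟩ : P) ∈ (⊤ : Subgroup P) := trivial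
  rw [hn, mem_bot] at h4
  exact congrArg Subtype.val h4

/-- every 2-central involution is conjugate to `z` -/
theorem conj_of_syl [Finite S] {z : S}
    (hsyl : ∃ Q : Sylow 2 S, z ∈ Q ∧ (∀ x ∈ Q, x * z = z * x) ∧ ∀ y ∈ Q, (∀ x ∈ Q, x * y = y * x) → y = 1 ∨ y = z)
    {w : S} {Q' : Sylow 2 S} (hw : orderOf w = 2) (hwQ : w ∈ Q') (hc : ∀ x ∈ Q', w * x = x * w) :
    ∃ g : S, g * w * g⁻¹ = z := by
  obtain ⟨Q, hz, -, huniq⟩ := hsyl
  obtain ⟨g, hg⟩ := MulAction.exists_smul_eq S Q' Q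
  have hmem : ∀ x, x ∈ Q ↔ g⁻¹ * x * g ∈ Q' := by
    intro x
    rw [← hg]
    show x ∈ ((g • Q' : Sylow 2 S) : Subgroup S) ↔ _
    rw [Sylow.coe_subgroup_smul, Subgroup.mem_pointwise_smul_iff_inv_smul_mem]
    have e : (MulAut.conj g)⁻¹ • x = g⁻¹ * x * g := by
      rw [← map_inv]
      show g⁻¹ * x * g⁻¹⁻¹ = _
      rw [inv_inv]
    rw [e]
    rfl
  refine ⟨g, ?_⟩
  rcases huniq (g * w * g⁻¹) ((hmem _).2 (by
      have : g⁻¹ * (g * w * g⁻¹) * g = w := by group
      rw [this]; exact hwQ)) (fun x hx => by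
      have h1 := hc _ ((hmem x).1 hx)
      calc x * (g * w * g⁻¹) = g * ((g⁻¹ * x * g) * w) * g⁻¹ := by group
        _ = g * (w * (g⁻¹ * x * g)) * g⁻¹ := by rw [h1]
        _ = g * w * g⁻¹ * x := by group) with h | h
  · exfalso
    have h2 : w = 1 := by
      have : g * w = g := by rwa [mul_inv_eq_one] at h
      exact mul_eq_left.1 this
    rw [h2, orderOf_one] at hw
    omega
  · exact h

/-- **Criterion.** The centre of a Sylow 2-subgroup is `⟨z⟩` and `C(z)` contains a perfect subgroup. -/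
theorem false_of_perfect [Finite S] (h : Loc S) {z : S}
    (hsyl : ∃ Q : Sylow 2 S, z ∈ Q ∧ (∀ x ∈ Q, x * z = z * x) ∧ ∀ y ∈ Q, (∀ x ∈ Q, x * y = y * x) → y = 1 ∨ y = z)
    {P : Subgroup S} (hP : ⁅P, P⁆ = P) (h1 : P ≠ ⊥) (hPz : ∀ x ∈ P, x * z = z * x) : False := by
  obtain ⟨w, Q', hw, hwQ, hc, hnc⟩ := h.exists_z
  obtain ⟨g, hg⟩ := conj_of_syl hsyl hw hwQ hc
  exact not_nc_of_perfect hP h1 (fun x hx => mem_centralizer_singleton_iff.2 (hPz x hx)) (nc_conj hg hnc)

/-- all involutions are conjugate -/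
theorem false_of_one_class [Finite S] (h : Loc S) {z : S}
    (hone : ∀ w : S, orderOf w = 2 → ∃ g, g * w * g⁻¹ = z) (hz : ¬ NC (centralizer ({z} : Set S))) : False := by
  obtain ⟨w, -, hw, -, -, hnc⟩ := h.exists_z
  obtain ⟨g, hg⟩ := hone w hw
  exact hz (nc_conj hg hnc)

theorem nat_card_conj {z w g : S} (hg : g * w * g⁻¹ = z) (hw : orderOf w = 2) : orderOf z = 2 := by
  rw [← hg, ← hw]
  exact (MulAut.conj g).orderOf_eq w

end Cfsg.Agent.H813.NCSpor
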